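import Mathlib

/-!
# Functions on the affine blow-up charts have bounded denominators
-/

set_option autoImplicit false
set_option linter.style.haveILetI false

universe u

namespace Groth.Agent.H14Pure

variable {C : Type u} [CommRing C]

theorem exists_pow_mul_le (I : Ideal C) (g x : C) (M : ℕ) (G : Finset C) (hG : (G : Set C) ⊆ I)
    (h : ∀ a ∈ G, ∃ N : ℕ, x * a ^ N ∈ Ideal.span {g} * I ^ (M + N)) :
    ∃ l : ℕ, ∀ e : ℕ, Ideal.span (G : Set C) ^ l * I ^ e * Ideal.span {x} ≤ Ideal.span {g} * I ^ (M + l + e) := by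
  classical
  induction G using Finset.induction with
  | empty =>
    refine ⟨1, fun e => ?_⟩
    simp
  | insert a G _ ih =>
    obtain ⟨l, hl⟩ := ih (fun y hy => hG (Finset.mem_insert_of_mem hy)) (fun y hy => h y (Finset.mem_insert_of_mem hy))
    obtain ⟨N, hN⟩ := h a (Finset.mem_insert_self a G)
    let J := Ideal.span (G : Set C)
    let P := Ideal.span ({a} : Set C)
    have hJ : J ≤ I := Ideal.span_le.2 fun y hy => hG (Finset.mem_insert_of_mem hy)
    have hP : P ≤ I := Ideal.span_le.2 (Set.singleton_subset_iff.2 (hG (Finset.mem_insert_self a G)))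
    have h1 : P ^ N * Ideal.span {x} ≤ Ideal.span {g} * I ^ (M + N) := by
      rw [Ideal.span_singleton_pow, Ideal.span_singleton_mul_span_singleton, Ideal.span_le, Set.singleton_subset_iff,
        SetLike.mem_coe, mul_comm (a ^ N) x]
      exact hN
    refine ⟨N + l, fun e => ?_⟩
    have hsup : Ideal.span ((insert a G : Finset C) : Set C) ^ (N + l) ≤ P ^ N * I ^ l ⊔ J ^ l * I ^ N := by
      rw [Finset.coe_insert, Ideal.span_insert, ← Ideal.add_eq_sup, add_pow, Ideal.sum_eq_sup]
      refine Finset.sup_le fun i hi => Ideal.mul_le_left.trans ?_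
      rw [Finset.mem_range] at hi
      by_cases hn : N ≤ i
      · refine le_sup_of_le_left ?_
        obtain ⟨j, rfl⟩ := Nat.exists_eq_add_of_le hn
        have : l = j + (N + l - (N + j)) := by omega
        rw [pow_add, mul_assoc]
        conv_rhs => rw [this, pow_add]
        gcongr
      · refine le_sup_of_le_right ?_
        have e1 : N + l - i = l + (N - i) := by omega
        rw [e1, pow_add]
        conv_rhs => rw [show N = i + (N - i) by omega, pow_add]
        calc P ^ i * (J ^ l * J ^ (N - i)) ≤ I ^ i * (J ^ l * I ^ (N - i)) := by gcongr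
          _ = J ^ l * (I ^ i * I ^ (N - i)) := by ring
    calc _ ≤ (P ^ N * I ^ l ⊔ J ^ l * I ^ N) * I ^ e * Ideal.span {x} := by gcongr
      _ = P ^ N * Ideal.span {x} * I ^ (l + e) ⊔ J ^ l * I ^ (N + e) * Ideal.span {x} := by
        simp only [← Ideal.add_eq_sup, pow_add]
        ring
      _ ≤ _ := by
        refine sup_le ?_ ((hl _).trans (le_of_eq (by ring)))
        calc _ ≤ Ideal.span {g} * I ^ (M + N) * I ^ (l + e) := by gcongr
          _ = _ := by ring

/-- An element whose products with large powers of the generators are divisible is divisible in large degree. -/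
theorem exists_bound [IsNoetherianRing C] (I : Ideal C) (g : C) (G : Finset C) (hG : Ideal.span (G : Set C) = I) :
    ∃ M₀ : ℕ, ∀ M : ℕ, M₀ < M → ∀ x ∈ I ^ M,
      (∀ a ∈ G, ∃ N : ℕ, x * a ^ N ∈ Ideal.span {g} * I ^ (M - 1 + N)) → x ∈ Ideal.span {g} * I ^ (M - 1) := by
  classical
  let D : Set (reesAlgebra I) := {z | ∃ (M : ℕ) (x : C), 0 < M ∧ x ∈ I ^ M ∧
    (∀ a ∈ G, ∃ N : ℕ, x * a ^ N ∈ Ideal.span {g} * I ^ (M - 1 + N)) ∧ (z : Polynomial C) = Polynomial.monomial M x}
  obtain ⟨Z, hZD, hZ⟩ := Submodule.fg_span_iff_fg_span_finset_subset (R := reesAlgebra I) D |>.1 (IsNoetherian.noetherian _)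
  choose! Mz xz hMz hxz hDz hz using fun z (hz : z ∈ Z) => hZD hz
  choose! l hl using fun z (hz : z ∈ Z) => exists_pow_mul_le I g (xz z) (Mz z - 1) G (hG ▸ Ideal.subset_span) (hDz z hz)
  refine ⟨Z.sup fun z => Mz z + l z, fun M hM x hx hd => ?_⟩
  have hm : (⟨Polynomial.monomial M x, reesAlgebra.monomial_mem.2 hx⟩ : reesAlgebra I) ∈ Submodule.span (reesAlgebra I) (Z : Set _) :=
    hZ ▸ Submodule.subset_span ⟨M, x, by omega, hx, hd, rfl⟩
  obtain ⟨c, -, hc⟩ := Submodule.mem_span_finset.1 hm
  have hx' : x = ∑ z ∈ Z, ((c z : Polynomial C) * Polynomial.monomial (Mz z) (xz z)).coeff M := by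
    have := congrArg (fun p : reesAlgebra I => (p : Polynomial C).coeff M) hc
    simp only [Polynomial.coeff_monomial_same, smul_eq_mul, AddSubmonoidClass.coe_finsetSum,
      MulMemClass.coe_mul, Polynomial.finsetSum_coeff] at this
    rw [← this]
    exact Finset.sum_congr rfl fun z hz' => by rw [hz z hz']
  rw [hx']
  refine Ideal.sum_mem _ fun z hz' => ?_
  have hle : Mz z + l z ≤ Z.sup fun z => Mz z + l z := Finset.le_sup (f := fun z => Mz z + l z) hz'
  have := hMz z hz'
  rw [show M = (M - Mz z) + Mz z by omega, Polynomial.coeff_mul_monomial, show M - Mz z + Mz z - 1 = Mz z - 1 + l z + (M - Mz z - l z) by omega]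
  refine hl z hz' (M - Mz z - l z) (Ideal.mul_mem_mul ?_ (Ideal.mem_span_singleton_self _))
  rw [hG, ← pow_add, show l z + (M - Mz z - l z) = M - Mz z by omega]
  exact (mem_reesAlgebra_iff I _).1 (c z).2 _

/-- The elements of the fraction field lying on all the charts form a finite module. -/
theorem exists_denominator [IsNoetherianRing C] {K : Type u} [Field K] [Algebra C K]
    (hinj : Function.Injective (algebraMap C K)) (I : Ideal C) (G : Finset C) (hG : Ideal.span (G : Set C) = I)
    {g : C} (hg : g ∈ G) (hg0 : g ≠ 0) :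
    ∃ M₀ : ℕ, ∀ a : K, (∀ h ∈ G, ∃ M : ℕ, ∃ y ∈ I ^ M, a * algebraMap C K h ^ M = algebraMap C K y) →
      ∃ x : C, a * algebraMap C K g ^ M₀ = algebraMap C K x := by
  obtain ⟨M₀, hM₀⟩ := exists_bound I g G hG
  refine ⟨M₀, fun a ha => ?_⟩
  have hgK : algebraMap C K g ≠ 0 := (map_ne_zero_iff _ hinj).2 hg0
  have key : ∀ M : ℕ, ∀ x ∈ I ^ M, a * algebraMap C K g ^ M = algebraMap C K x →
      ∃ z : C, a * algebraMap C K g ^ M₀ = algebraMap C K z := by
    intro M
    induction M with
    | zero =>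
      intro x _ hx
      exact ⟨x * g ^ M₀, by rw [map_mul, map_pow, ← hx, pow_zero, mul_one]⟩
    | succ M ih =>
      intro x hx hxa
      by_cases hle : M + 1 ≤ M₀
      · refine ⟨x * g ^ (M₀ - (M + 1)), ?_⟩
        rw [map_mul, map_pow, ← hxa, mul_assoc, ← pow_add, Nat.add_sub_cancel' hle]
      · have hx' := hM₀ (M + 1) (by omega) x hx fun h hh => by
          obtain ⟨N, y, hy, hay⟩ := ha h hh
          refine ⟨N, ?_⟩
          have e : x * h ^ N = g * (g ^ M * y) := hinj (by
            rw [map_mul, map_pow, ← hxa, map_mul, map_mul, map_pow, ← hay]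
            ring)
          rw [e, Nat.add_sub_cancel, pow_add]
          exact Ideal.mul_mem_mul (Ideal.mem_span_singleton_self g)
            (Ideal.mul_mem_mul (Ideal.pow_mem_pow (hG ▸ Ideal.subset_span hg) M) hy)
        obtain ⟨x', hx'', rfl⟩ := Ideal.mem_span_singleton_mul.1 hx'
        refine ih x' (by simpa using hx'') (mul_right_cancel₀ hgK ?_)
        rw [mul_assoc, ← pow_succ, hxa, map_mul, mul_comm]
  obtain ⟨M, x, hx, hxa⟩ := ha g hg
  exact key M x hx hxa

end Groth.Agent.H14Pure
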