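import Groth.Agent.H14Pure.Basic
import Groth.Agent.H7Flat.Flatten.Main

/-!
# Charts of a flattening blow-up of a pure birational extension
-/

set_option autoImplicit false
set_option linter.style.haveILetI false
set_option maxHeartbeats 1000000

universe u

open TensorProduct

namespace Groth.Agent.H14Pure

section Colon

variable {C Q : Type u} [CommRing C] [CommRing Q] [Algebra C Q] [Module.Flat C Q]

/-- Divisibility descends along flat algebras at the primes of the image. -/
theorem exists_notMem_mul_mem (J : Ideal C) (c : C) (hc : algebraMap C Q c ∈ J.map (algebraMap C Q))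
    (𝔔 : Ideal Q) [h𝔔 : 𝔔.IsPrime] : ∃ s ∉ 𝔔.comap (algebraMap C Q), s * c ∈ J := by
  by_contra! hne
  let K := LinearMap.ker ((Submodule.mkQ J).comp (LinearMap.mulRight C c))
  let ι : C ⧸ K →ₗ[C] C ⧸ J := K.liftQ ((Submodule.mkQ J).comp (LinearMap.mulRight C c)) le_rfl
  have hι : Function.Injective ι := LinearMap.ker_eq_bot.1 (Submodule.ker_liftQ_eq_bot _ _ _ le_rfl)
  have h0 : (1 : Q) ⊗ₜ[C] (Submodule.Quotient.mk (p := K) (1 : C)) = 0 := by
    apply Module.Flat.lTensor_preserves_injective_linearMap (M := Q) ι hι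
    rw [LinearMap.lTensor_tmul, map_zero]
    change (1 : Q) ⊗ₜ[C] Submodule.Quotient.mk (p := J) ((1 : C) * c) = 0
    rw [one_mul, show Submodule.Quotient.mk (p := J) c = c • Submodule.Quotient.mk (p := J) (1 : C) by
      rw [← Submodule.Quotient.mk_smul, smul_eq_mul, mul_one],
      ← smul_tmul, Algebra.smul_def, mul_one]
    refine Submodule.span_induction (p := fun q _ => q ⊗ₜ[C] Submodule.Quotient.mk (p := J) (1 : C) = 0) ?_ ?_ ?_ ?_ hc
    · rintro _ ⟨j, hj, rfl⟩
      rw [Algebra.algebraMap_eq_smul_one, smul_tmul, ← Submodule.Quotient.mk_smul, smul_eq_mul, mul_one,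
        (Submodule.Quotient.mk_eq_zero J).2 hj, tmul_zero]
    · exact zero_tmul _ _
    · intro x y _ _ hx hy
      rw [add_tmul, hx, hy, add_zero]
    · intro q x _ hx
      rw [show (q • x) ⊗ₜ[C] Submodule.Quotient.mk (p := J) (1 : C) = q • (x ⊗ₜ[C] _) from (smul_tmul' q x _).symm,
        hx, smul_zero]
  have hK : K ≤ (𝔔.comap (algebraMap C Q)).restrictScalars C := fun s hs => by
    by_contra hs'
    exact hne s hs' ((Submodule.Quotient.mk_eq_zero J).1 hs)
  let π : C ⧸ K →ₗ[C] Q ⧸ 𝔔 := K.liftQ (Algebra.linearMap C (Q ⧸ 𝔔)) fun s hs => by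
    rw [LinearMap.mem_ker, Algebra.linearMap_apply, IsScalarTower.algebraMap_apply C Q (Q ⧸ 𝔔)]
    exact Ideal.Quotient.eq_zero_iff_mem.2 (hK hs)
  have := congrArg (TensorProduct.lift ((LinearMap.mul C (Q ⧸ 𝔔)).compl₂ π ∘ₗ
    (IsScalarTower.toAlgHom C Q (Q ⧸ 𝔔)).toLinearMap)) h0
  simp only [lift.tmul, LinearMap.comp_apply, LinearMap.compl₂_apply, LinearMap.mul_apply', map_zero] at this
  rw [AlgHom.toLinearMap_apply, map_one, one_mul, show π (Submodule.Quotient.mk (1 : C)) = 1 from map_one (algebraMap C (Q ⧸ 𝔔))] at this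
  exact one_ne_zero this

end Colon

variable {A₁ A B K : Type u} [CommRing A₁] [IsNoetherianRing A₁] [CommRing A] [CommRing B] [Field K]
  [Algebra A₁ A] [Algebra A B] [Algebra A₁ B] [IsScalarTower A₁ A B]
  [Algebra A K] [Algebra A₁ K] [IsScalarTower A₁ A K] [Algebra.FiniteType A₁ B]

/-- The fractions with denominator `g`. -/
def fracSet (A₁ K : Type u) [CommRing A₁] [Field K] [Algebra A₁ K] (I : Ideal A₁) (g : A₁) : Set K :=
  {q | ∃ x ∈ I, q * algebraMap A₁ K g = algebraMap A₁ K x}

theorem fg_adjoin_fracSet (I : Ideal A₁) (g : A₁) (hg : algebraMap A₁ K g ≠ 0) :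
    (Algebra.adjoin A₁ (fracSet A₁ K I g)).FG := by
  classical
  obtain ⟨s, hs⟩ := I.fg_of_isNoetherianRing
  refine ⟨s.image fun x => algebraMap A₁ K x / algebraMap A₁ K g, le_antisymm (Algebra.adjoin_le ?_) (Algebra.adjoin_le ?_)⟩
  · intro q hq
    obtain ⟨x, hx, rfl⟩ := Finset.mem_image.1 hq
    exact Algebra.subset_adjoin ⟨x, hs ▸ Ideal.subset_span hx, div_mul_cancel₀ _ hg⟩
  · rintro q ⟨x, hx, hq⟩
    obtain rfl : q = algebraMap A₁ K x / algebraMap A₁ K g := by rw [eq_div_iff hg, hq]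
    rw [← hs] at hx
    induction hx using Submodule.span_induction with
    | mem y hy => exact Algebra.subset_adjoin (Finset.mem_image_of_mem _ hy)
    | zero => simp
    | add y z _ _ h1 h2 => rw [map_add, add_div]; exact add_mem (h1 (div_mul_cancel₀ _ hg)) (h2 (div_mul_cancel₀ _ hg))
    | smul a y _ h1 =>
      rw [smul_eq_mul, map_mul, mul_div_assoc]
      exact mul_mem (Subalgebra.algebraMap_mem _ a) (h1 (div_mul_cancel₀ _ hg))

/-- A chart of the blow-up has finitely generated functions. -/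
theorem exists_chart_generators (hp : IsPureAlg A B) (hinjA : Function.Injective (algebraMap A K))
    (f : A₁) (hf : algebraMap A₁ K f ≠ 0) (hloc : ∀ a : A, ∃ (n : ℕ) (x : A₁), algebraMap A₁ A f ^ n * a = algebraMap A₁ A x)
    (I : Ideal A₁) (hflat : H7Flat.Flatten.Flattening A₁ B B I) (g : A₁) (hgI : g ∈ I)
    (hg : algebraMap A₁ K g ≠ 0) :
    ∃ e : Finset K, (∀ q ∈ e, q ∈ Algebra.adjoin A (fracSet A₁ K I g)) ∧
      ∀ q ∈ Algebra.adjoin A (fracSet A₁ K I g), q ∈ Algebra.adjoin A₁ (e : Set K) := by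
  classical
  let C := Algebra.adjoin A₁ (fracSet A₁ K I g)
  let CA := Algebra.adjoin A (fracSet A₁ K I g)
  haveI : Algebra.FiniteType A₁ C := C.fg_iff_finiteType.1 (fg_adjoin_fracSet I g hg)
  haveI : IsNoetherianRing C := Algebra.FiniteType.isNoetherianRing A₁ C
  have hle : C ≤ CA.restrictScalars A₁ := Algebra.adjoin_le Algebra.subset_adjoin
  let t : C := algebraMap A₁ C g
  have ht : t ∈ nonZeroDivisors C := mem_nonZeroDivisors_of_ne_zero fun h => hg (congrArg Subtype.val h)
  have hIt : I.map (algebraMap A₁ C) = Ideal.span {t} := by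
    refine le_antisymm (Ideal.map_le_iff_le_comap.2 fun x hx => ?_)
      (Ideal.span_le.2 (Set.singleton_subset_iff.2 (Ideal.mem_map_of_mem _ hgI)))
    rw [Ideal.mem_comap, Ideal.mem_span_singleton']
    exact ⟨⟨algebraMap A₁ K x / algebraMap A₁ K g, Algebra.subset_adjoin ⟨x, hx, div_mul_cancel₀ _ hg⟩⟩,
      Subtype.ext (div_mul_cancel₀ _ hg)⟩
  let BB := (C : Type u) ⊗[A₁] B
  letI : Algebra B BB := Algebra.TensorProduct.rightAlgebra
  haveI : IsScalarTower A₁ B BB := .of_algebraMap_eq fun x => (Algebra.TensorProduct.includeRight.commutes x).symm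
  obtain ⟨hQflat, -⟩ := hflat C t ht hIt BB BB (Algebra.linearMap B BB) (IsBaseChange.linearMap B BB)
  let Tt : Ideal BB := H7Flat.Flatten.tors BB t BB
  let Q := BB ⧸ Tt
  haveI : Module.Flat C Q := hQflat
  haveI : Algebra.FiniteType C BB := inferInstance
  haveI : Algebra.FiniteType C Q := Algebra.FiniteType.of_surjective (Ideal.Quotient.mkₐ C Tt) Ideal.Quotient.mk_surjective
  haveI : Algebra.FinitePresentation C Q := Algebra.FinitePresentation.of_finiteType.1 inferInstance
  let ζ : C ⊗[A₁] A →ₐ[A₁] Q := ((Ideal.Quotient.mkₐ C Tt).restrictScalars A₁).comp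
    (Algebra.TensorProduct.map (AlgHom.id A₁ C) (IsScalarTower.toAlgHom A₁ A B))
  let μ : C ⊗[A₁] A →ₐ[A₁] K :=
    Algebra.TensorProduct.lift C.val (IsScalarTower.toAlgHom A₁ A K) fun _ _ => Commute.all _ _
  let fC : C := algebraMap A₁ C f
  have hnum : ∀ z : C ⊗[A₁] A, ∃ (n : ℕ) (c : C), f ^ n • z = c ⊗ₜ 1 := fun z => by
    induction z with
    | zero => exact ⟨0, 0, by simp⟩
    | tmul c a =>
      obtain ⟨n, x, hx⟩ := hloc a
      refine ⟨n, x • c, ?_⟩
      rw [← tmul_smul, Algebra.smul_def, map_pow, hx, Algebra.algebraMap_eq_smul_one, smul_tmul]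
    | add z z' h h' =>
      obtain ⟨n, c, hc⟩ := h
      obtain ⟨n', c', hc'⟩ := h'
      refine ⟨n + n', f ^ n' • c + f ^ n • c', ?_⟩
      rw [smul_add, add_tmul, ← smul_tmul', ← smul_tmul', ← hc, ← hc', smul_smul, smul_smul, ← pow_add, ← pow_add, add_comm n' n]
  have hμ : ∀ d ∈ CA, ∃ z, μ z = d := fun d hd => by
    induction hd using Algebra.adjoin_induction with
    | mem x hx => exact ⟨⟨x, Algebra.subset_adjoin hx⟩ ⊗ₜ 1, by simp [μ]⟩
    | algebraMap r => exact ⟨1 ⊗ₜ r, by simp [μ]⟩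
    | add x y _ _ h1 h2 =>
      obtain ⟨z, rfl⟩ := h1
      obtain ⟨w, rfl⟩ := h2
      exact ⟨z + w, map_add μ z w⟩
    | mul x y _ _ h1 h2 =>
      obtain ⟨z, rfl⟩ := h1
      obtain ⟨w, rfl⟩ := h2
      exact ⟨z * w, map_mul μ z w⟩
  have hdiv : ∀ d ∈ CA, ∃ (n : ℕ) (c : C), algebraMap A₁ K f ^ n * d = c ∧
      algebraMap C Q c ∈ (Ideal.span {fC ^ n}).map (algebraMap C Q) := fun d hd => by
    obtain ⟨z, rfl⟩ := hμ d hd
    obtain ⟨n, c, hc⟩ := hnum z
    refine ⟨n, c, ?_, ?_⟩
    · have := congrArg μ hc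
      rw [map_smul, Algebra.smul_def, map_pow] at this
      rw [this]
      simp [μ]
    · rw [Ideal.map_span, Set.image_singleton, Ideal.mem_span_singleton']
      refine ⟨ζ z, ?_⟩
      have := congrArg ζ hc
      rw [map_smul, Algebra.smul_def, map_pow] at this
      rw [map_pow, mul_comm, ← IsScalarTower.algebraMap_apply A₁ C Q, this]
      change Ideal.Quotient.mk Tt (c ⊗ₜ[A₁] IsScalarTower.toAlgHom A₁ A B 1) = _
      rw [map_one]
      rfl
  let J : CA →+* K := CA.val.toRingHom
  let j : C →+* CA := (Subalgebra.inclusion hle).toRingHom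
  have hsurj : ∀ P : Ideal CA, P.IsPrime → ∃ 𝔔 : Ideal Q, 𝔔.IsPrime ∧ 𝔔.comap (algebraMap C Q) = P.comap j := by
    intro P hP
    let P' : Ideal CA.toSubring := P
    haveI : P'.IsPrime := hP
    obtain ⟨V, hV⟩ := LocalSubring.exists_le_valuationSubring (LocalSubring.ofPrime CA.toSubring P')
    have hCAV : ∀ x ∈ CA, x ∈ V := fun x hx => hV.1 (LocalSubring.le_ofPrime CA.toSubring P' hx)
    let iV : CA →+* V := CA.val.toRingHom.codRestrict V.toSubring fun x => hCAV _ x.2
    have hmV : (IsLocalRing.maximalIdeal V).comap iV = P := by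
      have hloc := hV.2
      haveI := hloc
      let iP : CA →+* (LocalSubring.ofPrime CA.toSubring P').toSubring :=
        Subring.inclusion (LocalSubring.le_ofPrime CA.toSubring P')
      have h1 : (IsLocalRing.maximalIdeal V).comap iV =
          ((IsLocalRing.maximalIdeal V.toLocalSubring.toSubring).comap (Subring.inclusion hV.1)).comap iP := rfl
      rw [h1, IsLocalRing.maximalIdeal_comap (Subring.inclusion hV.1)]
      exact IsLocalization.AtPrime.under_maximalIdeal (R := CA.toSubring)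
        (LocalSubring.ofPrime CA.toSubring P').toSubring P'
    let aV : A →+* V := iV.comp (algebraMap A CA)
    letI : Algebra A V := aV.toAlgebra
    let BV := (V : Type u) ⊗[A] B
    let cV : C →+* BV := (algebraMap V BV).comp (iV.comp j)
    letI : Algebra C BV := cV.toAlgebra
    letI : Algebra A₁ BV := (cV.comp (algebraMap A₁ C)).toAlgebra
    haveI : IsScalarTower A₁ C BV := .of_algebraMap_eq fun _ => rfl
    let gV : V := iV (j t)
    have hgV : gV ≠ 0 := fun h => hg (congrArg Subtype.val h)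
    have hcA : ∀ x : A₁, iV (j (algebraMap A₁ C x)) = aV (algebraMap A₁ A x) := fun x =>
      Subtype.ext (IsScalarTower.algebraMap_apply A₁ A K x)
    let β : B →ₐ[A₁] BV :=
      { (Algebra.TensorProduct.includeRight : B →ₐ[A] BV).toRingHom with
        commutes' := fun x => by
          change (Algebra.TensorProduct.includeRight : B →ₐ[A] BV) (algebraMap A₁ B x) =
            algebraMap V BV (iV (j (algebraMap A₁ C x)))
          rw [IsScalarTower.algebraMap_apply A₁ A B, AlgHom.commutes, hcA,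
            IsScalarTower.algebraMap_apply A V BV]
          rfl }
    let χ : BB →ₐ[A₁] BV :=
      Algebra.TensorProduct.lift (IsScalarTower.toAlgHom A₁ C BV) β fun _ _ => Commute.all _ _
    let Tg : Ideal BV :=
      { carrier := {z | ∃ n : ℕ, algebraMap V BV gV ^ n * z = 0}
        add_mem' := fun {x y} ⟨n, hn⟩ ⟨m, hm⟩ => ⟨n + m, by
          rw [mul_add, pow_add, mul_assoc, mul_assoc, hm, mul_zero, mul_left_comm, hn, mul_zero, add_zero]⟩
        zero_mem' := ⟨0, by simp⟩
        smul_mem' := fun c x ⟨n, hn⟩ => ⟨n, by rw [smul_eq_mul, mul_left_comm, hn, mul_zero]⟩ }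
    let J₀ : Ideal BV := Tg ⊔ (IsLocalRing.maximalIdeal V).map (algebraMap V BV)
    have hJ₀ : J₀ ≠ ⊤ := fun htop => by
      have h1 : (1 : BV) ∈ J₀ := htop ▸ Submodule.mem_top
      obtain ⟨τ, ⟨n, hn⟩, μ', hμ', hadd⟩ := Submodule.mem_sup.1 h1
      obtain ⟨Z, hZ, hμZ⟩ := Submodule.mem_span_finite_of_mem_span hμ'
      let J' : Ideal V := Ideal.span {v | v ∈ IsLocalRing.maximalIdeal V ∧ algebraMap V BV v ∈ Z}
      have hJ'fg : ∃ s : Finset V, ↑s ⊆ (IsLocalRing.maximalIdeal V : Set V) ∧ μ' ∈ (Ideal.span (s : Set V)).map (algebraMap V BV) := by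
        choose! v hv hv' using fun z (hz : z ∈ Z) => hZ hz
        refine ⟨Z.image v, fun x hx => ?_, ?_⟩
        · obtain ⟨z, hz, rfl⟩ := Finset.mem_image.1 (Finset.mem_coe.1 hx)
          exact hv z hz
        · refine (Submodule.span_le.2 fun z hz => ?_) hμZ
          rw [SetLike.mem_coe, ← hv' z hz]
          exact Ideal.mem_map_of_mem _ (Ideal.subset_span (Finset.mem_image_of_mem v hz))
      obtain ⟨s, hs, hμs⟩ := hJ'fg
      haveI := (IsBezout.isPrincipal_of_FG (Ideal.span (s : Set V)) (Submodule.fg_span s.finite_toSet))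
      obtain ⟨t', ht'⟩ := Submodule.IsPrincipal.principal (Ideal.span (s : Set V))
      have ht'm : t' ∈ IsLocalRing.maximalIdeal V :=
        Ideal.span_le.2 hs (ht'.symm ▸ Submodule.mem_span_singleton_self t')
      rw [ht', Ideal.submodule_span_eq, Ideal.map_span, Set.image_singleton, Ideal.mem_span_singleton'] at hμs
      obtain ⟨b, hb⟩ := hμs
      have h2 : algebraMap V BV gV ^ n = algebraMap V BV (gV ^ n * t') * b := by
        conv_lhs => rw [← mul_one (algebraMap V BV gV ^ n), ← hadd, mul_add, hn, zero_add, ← hb]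
        rw [map_mul, map_pow]
        ring
      let S' : Submodule A V := (Ideal.span {gV ^ n * t'}).restrictScalars A
      have h3 : (1 : B) ⊗ₜ[A] (Submodule.Quotient.mk (p := S') (gV ^ n)) = 0 := by
        let ev : BV →ₗ[A] B ⊗[A] (V ⧸ S') :=
          (S'.mkQ.lTensor B).comp (TensorProduct.comm A V B).toLinearMap
        have h4 : ∀ w : BV, ev (algebraMap V BV (gV ^ n * t') * w) = 0 := fun w => by
          induction w using TensorProduct.induction_on with
          | zero => simp
          | add x y hx hy => rw [mul_add, map_add, hx, hy, add_zero]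
          | tmul v b =>
            rw [Algebra.TensorProduct.algebraMap_apply, Algebra.TensorProduct.tmul_mul_tmul]
            change ((1 : B) * b) ⊗ₜ[A] Submodule.Quotient.mk (p := S') ((gV ^ n * t') * v) = 0
            rw [(Submodule.Quotient.mk_eq_zero S').2 (Ideal.mul_mem_right _ _ (Ideal.mem_span_singleton_self _)), tmul_zero]
        have h5 := h4 b
        rw [← h2, ← map_pow, Algebra.TensorProduct.algebraMap_apply] at h5
        exact h5
      obtain ⟨w, hw⟩ := Ideal.mem_span_singleton'.1 ((Submodule.Quotient.mk_eq_zero S').1 (hp _ _ h3))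
      refine (IsLocalRing.mem_maximalIdeal t').1 ht'm (IsUnit.of_mul_eq_one w (mul_left_cancel₀ (pow_ne_zero n hgV) ?_))
      linear_combination hw
    obtain ⟨𝔔', h𝔔', hle'⟩ := Ideal.exists_le_maximal J₀ hJ₀
    have hker : ∀ z ∈ Tt, (Ideal.Quotient.mk 𝔔').comp χ.toRingHom z = 0 := fun z hz => by
      obtain ⟨n, hn⟩ := H7Flat.Flatten.mem_tors_iff.1 hz
      refine Ideal.Quotient.eq_zero_iff_mem.2 (hle' (Submodule.mem_sup_left ⟨n, ?_⟩))
      have e : χ (algebraMap C BB t) = algebraMap V BV gV := by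
        change χ (t ⊗ₜ 1) = _
        rw [Algebra.TensorProduct.lift_tmul, map_one, mul_one]
        rfl
      rw [← e, ← map_pow]
      change χ (algebraMap C BB t ^ n) * χ z = 0
      rw [← map_mul, ← map_pow, ← Algebra.smul_def, hn, map_zero]
    haveI := h𝔔'.isPrime
    let ψ : Q →+* BV ⧸ 𝔔' := Ideal.Quotient.lift Tt _ hker
    refine ⟨RingHom.ker ψ, RingHom.ker_isPrime ψ, ?_⟩
    have hV𝔔 : 𝔔'.comap (algebraMap V BV) = IsLocalRing.maximalIdeal V :=
      ((IsLocalRing.maximalIdeal.isMaximal V).eq_of_le (Ideal.comap_ne_top _ h𝔔'.ne_top)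
        (Ideal.map_le_iff_le_comap.1 (le_sup_right.trans hle'))).symm
    ext c
    have : ψ (algebraMap C Q c) = Ideal.Quotient.mk 𝔔' (algebraMap V BV (iV (j c))) := by
      change Ideal.Quotient.mk 𝔔' (χ (c ⊗ₜ 1)) = _
      rw [Algebra.TensorProduct.lift_tmul, map_one, mul_one]
      rfl
    rw [Ideal.mem_comap, RingHom.mem_ker, this, Ideal.Quotient.eq_zero_iff_mem, ← Ideal.mem_comap, hV𝔔,
      ← Ideal.mem_comap, hmV, Ideal.mem_comap]
  have hU : IsOpen (Set.range (PrimeSpectrum.comap (algebraMap C Q))) :=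
    (PrimeSpectrum.isOpenMap_comap_of_hasGoingDown_of_finitePresentation (R := C) (S := Q)).isOpen_range
  let S₀ : Set C := {s | ∀ d ∈ CA, ∃ n : ℕ, (s : K) ^ n * d ∈ C}
  have hspan : Ideal.span (j '' S₀) = ⊤ := by
    by_contra hne
    obtain ⟨P, hPm, hle₀⟩ := Ideal.exists_le_maximal _ hne
    obtain ⟨𝔔, h𝔔, hcomap⟩ := hsurj P hPm.isPrime
    obtain ⟨_, ⟨s, rfl⟩, hsq, hsU⟩ := PrimeSpectrum.isTopologicalBasis_basic_opens.exists_subset_of_mem_open
      (⟨⟨𝔔, h𝔔⟩, rfl⟩ : PrimeSpectrum.comap (algebraMap C Q) ⟨𝔔, h𝔔⟩ ∈ Set.range _) hU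
    have hsP : s ∉ P.comap j := hcomap ▸ hsq
    refine hsP (hle₀ (Ideal.subset_span ⟨s, fun d hd => ?_, rfl⟩))
    let Jd : Ideal C :=
      { carrier := {x | (x : K) * d ∈ C}
        add_mem' := fun {x y} (hx : (x : K) * d ∈ C) (hy : (y : K) * d ∈ C) => show ((x + y : C) : K) * d ∈ C by
          rw [Subalgebra.coe_add, add_mul]; exact add_mem hx hy
        zero_mem' := show ((0 : C) : K) * d ∈ C by rw [Subalgebra.coe_zero, zero_mul]; exact zero_mem _
        smul_mem' := fun c x (hx : (x : K) * d ∈ C) => show ((c * x : C) : K) * d ∈ C by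
          rw [Subalgebra.coe_mul, mul_assoc]; exact mul_mem c.2 hx }
    have hsJ : s ∈ Jd.radical := by
      rw [Ideal.radical_eq_sInf, Ideal.mem_sInf]
      rintro q ⟨hJq, hq⟩
      by_contra hs
      obtain ⟨⟨𝔮, h𝔮⟩, h𝔮q⟩ := hsU (show (⟨q, hq⟩ : PrimeSpectrum C) ∈ _ from hs)
      obtain ⟨n, c, hc, hmem⟩ := hdiv d hd
      obtain ⟨s', hs', hs'c⟩ := exists_notMem_mul_mem _ c hmem 𝔮
      refine hs' ?_
      rw [show 𝔮.comap (algebraMap C Q) = q from congrArg PrimeSpectrum.asIdeal h𝔮q]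
      refine hJq ?_
      obtain ⟨e, he⟩ := Ideal.mem_span_singleton'.1 hs'c
      have : (s' : K) * d = e := mul_left_cancel₀ (pow_ne_zero n hf) (by
        rw [mul_left_comm, hc]
        have := congrArg Subtype.val he
        rw [MulMemClass.coe_mul, MulMemClass.coe_mul, SubmonoidClass.coe_pow] at this
        rw [← this, mul_comm]
        rfl)
      show (s' : K) * d ∈ C
      exact this ▸ e.2
    obtain ⟨n, hn⟩ := hsJ
    exact ⟨n, by simpa [Jd] using hn⟩
  obtain ⟨Z, hZ, h1⟩ := Submodule.mem_span_finite_of_mem_span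
    (show (1 : CA) ∈ Ideal.span (j '' S₀) from hspan ▸ Submodule.mem_top)
  obtain ⟨w, -, hw⟩ := Submodule.mem_span_finset.1 h1
  choose! σ hσ hσ' using fun z (hz : z ∈ Z) => hZ hz
  obtain ⟨e₀, he₀⟩ := fg_adjoin_fracSet (K := K) I g hg
  let e : Finset K := e₀ ∪ Z.image fun z => (w z : K)
  refine ⟨e, fun q hq => ?_, fun d hd => ?_⟩
  · rcases Finset.mem_union.1 hq with h | h
    · exact hle ((SetLike.ext_iff.1 he₀ q).1 (Algebra.subset_adjoin h))
    · obtain ⟨z, -, rfl⟩ := Finset.mem_image.1 h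
      exact (w z).2
  · let C' := Algebra.adjoin A₁ (e : Set K)
    have hCC' : C ≤ C' := by
      rw [show C = Algebra.adjoin A₁ (e₀ : Set K) from he₀.symm]
      exact Algebra.adjoin_mono (Finset.coe_subset.2 Finset.subset_union_left)
    let Jd : Ideal C' :=
      { carrier := {x | (x : K) * d ∈ C'}
        add_mem' := fun {x y} (hx : (x : K) * d ∈ C') (hy : (y : K) * d ∈ C') => show ((x + y : C') : K) * d ∈ C' by
          rw [Subalgebra.coe_add, add_mul]; exact add_mem hx hy
        zero_mem' := show ((0 : C') : K) * d ∈ C' by rw [Subalgebra.coe_zero, zero_mul]; exact zero_mem _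
        smul_mem' := fun c x (hx : (x : K) * d ∈ C') => show ((c * x : C') : K) * d ∈ C' by
          rw [Subalgebra.coe_mul, mul_assoc]; exact mul_mem c.2 hx }
    have htop : Jd.radical = ⊤ := by
      rw [Ideal.eq_top_iff_one]
      have hsum : (1 : C') = ∑ z ∈ Z.attach,
          ⟨(w z : K), Algebra.subset_adjoin (Finset.mem_union_right _ (Finset.mem_image_of_mem _ z.2))⟩ *
            (Subalgebra.inclusion hCC') (σ z) := by
        apply Subtype.ext
        rw [AddSubmonoidClass.coe_finsetSum]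
        refine Eq.trans ?_ (Finset.sum_attach Z fun z => (w z : K) * (σ z : K)).symm
        have := congrArg Subtype.val hw
        rw [AddSubmonoidClass.coe_finsetSum] at this
        refine this.symm.trans (Finset.sum_congr rfl fun z hz => ?_)
        exact congrArg (fun q : CA => (w z : K) * q) (hσ' z hz).symm
      rw [hsum]
      refine Ideal.sum_mem _ fun z _ => Ideal.mul_mem_left _ _ ?_
      obtain ⟨n, hn⟩ := hσ z z.2 d hd
      exact ⟨n, show _ * d ∈ C' by simpa using hCC' hn⟩
    have h := (Ideal.radical_eq_top.1 htop).symm ▸ (Submodule.mem_top : (1 : C') ∈ ⊤)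
    change ((1 : C') : K) * d ∈ C' at h
    simpa using h

end Groth.Agent.H14Pure
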