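import Groth.Agent.H14Pure.Birational
import Groth.Agent.H14Pure.Chart
import Groth.Agent.H14Pure.Blow

/-!
# A pure Noetherian subalgebra of an algebra of finite type is of finite type
-/

set_option autoImplicit false
set_option linter.style.haveILetI false
set_option maxHeartbeats 1000000

universe u

open TensorProduct

namespace Groth.Agent.H14Pure

theorem exists_finset_adjoin {A₁ A K : Type u} [CommRing A₁] [CommRing A] [CommRing K] [Algebra A₁ K] [Algebra A K]
    (S : Set K) {q : K} (hq : q ∈ Algebra.adjoin A S) :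
    ∃ T : Finset A, q ∈ Algebra.adjoin A₁ (S ∪ algebraMap A K '' (T : Set A)) := by
  classical
  have mono : ∀ T T' : Finset A, T ⊆ T' →
      Algebra.adjoin A₁ (S ∪ algebraMap A K '' (T : Set A)) ≤ Algebra.adjoin A₁ (S ∪ algebraMap A K '' (T' : Set A)) :=
    fun T T' h => Algebra.adjoin_mono (Set.union_subset_union_right _ (Set.image_mono (Finset.coe_subset.2 h)))
  induction hq using Algebra.adjoin_induction with
  | mem x hx => exact ⟨∅, Algebra.subset_adjoin (Or.inl hx)⟩
  | algebraMap r => exact ⟨{r}, Algebra.subset_adjoin (Or.inr ⟨r, by simp, rfl⟩)⟩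
  | add x y _ _ h h' =>
    obtain ⟨T, hT⟩ := h
    obtain ⟨T', hT'⟩ := h'
    exact ⟨T ∪ T', add_mem (mono T _ Finset.subset_union_left hT) (mono T' _ Finset.subset_union_right hT')⟩
  | mul x y _ _ h h' =>
    obtain ⟨T, hT⟩ := h
    obtain ⟨T', hT'⟩ := h'
    exact ⟨T ∪ T', mul_mem (mono T _ Finset.subset_union_left hT) (mono T' _ Finset.subset_union_right hT')⟩

theorem exists_pow_mem {C K : Type u} [CommRing C] [CommRing K] [Algebra C K] (I : Ideal C) {g : C} (hg : g ∈ I)
    (S : Set K) (hS : ∀ q ∈ S, ∃ x ∈ I, q * algebraMap C K g = algebraMap C K x) {q : K}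
    (hq : q ∈ Algebra.adjoin C S) : ∃ M : ℕ, ∃ y ∈ I ^ M, q * algebraMap C K g ^ M = algebraMap C K y := by
  induction hq using Algebra.adjoin_induction with
  | mem x hx =>
    obtain ⟨y, hy, h⟩ := hS x hx
    exact ⟨1, y, by simpa using hy, by simpa using h⟩
  | algebraMap r => exact ⟨0, r, by simp, by simp⟩
  | add x y _ _ h h' =>
    obtain ⟨M, a, ha, hxa⟩ := h
    obtain ⟨M', b, hb, hyb⟩ := h'
    refine ⟨M + M', a * g ^ M' + g ^ M * b, Ideal.add_mem _ ?_ ?_, ?_⟩
    · rw [pow_add]; exact Ideal.mul_mem_mul ha (Ideal.pow_mem_pow hg M')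
    · rw [pow_add]; exact Ideal.mul_mem_mul (Ideal.pow_mem_pow hg M) hb
    · rw [map_add, map_mul, map_mul, map_pow, map_pow, ← hxa, ← hyb]; ring
  | mul x y _ _ h h' =>
    obtain ⟨M, a, ha, hxa⟩ := h
    obtain ⟨M', b, hb, hyb⟩ := h'
    refine ⟨M + M', a * b, by rw [pow_add]; exact Ideal.mul_mem_mul ha hb, ?_⟩
    rw [map_mul, ← hxa, ← hyb]; ring

theorem goodAway_self {C B : Type u} [CommRing C] [CommRing B] [Algebra C B] (j : C) (BL : Type u) [CommRing BL]
    [Algebra B BL] [Algebra C BL] [IsScalarTower C B BL] [IsLocalization.Away (algebraMap C B j) BL]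
    [Module.Flat C BL] : H7Flat.Flatten.GoodAway C B B j := by
  let g := algebraMap C B j
  haveI : IsLocalizedModule (Submonoid.powers g) (Algebra.linearMap B BL) :=
    (isLocalizedModule_iff_isLocalization' (Submonoid.powers g) BL).2 (inferInstanceAs (IsLocalization.Away g BL))
  let e := IsLocalizedModule.linearEquiv (Submonoid.powers g) (Algebra.linearMap B BL)
    (LocalizedModule.mkLinearMap (Submonoid.powers g) B)
  exact ⟨inferInstanceAs (Module.FinitePresentation (Localization.Away g) (Localization.Away g)),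
    Module.Flat.of_linearEquiv (e.restrictScalars C).symm⟩

/-- The case of a domain all of whose proper quotients are of finite type. -/
theorem finiteType_of_domain {R A B : Type u} [CommRing R] [IsNoetherianRing R] [CommRing A] [IsDomain A]
    [IsNoetherianRing A] [CommRing B] [Algebra R A] [Algebra A B] [Algebra R B] [IsScalarTower R A B]
    [Algebra.FiniteType R B] (hp : IsPureAlg A B) (ih : ∀ a : A, a ≠ 0 → Algebra.FiniteType R (A ⧸ Ideal.span {a})) :
    Algebra.FiniteType R A := by
  classical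
  obtain ⟨T₀, f, hf, hloc₀, hflat⟩ := exists_away (R := R) hp
  let A₀ := Algebra.adjoin R (T₀ : Set A)
  obtain ⟨s₁, hs₁⟩ := (ih (f : A) hf).out
  choose l₁ hl₁ using Ideal.Quotient.mk_surjective (I := Ideal.span {(f : A)})
  let T₁ : Finset A := T₀ ∪ s₁.image l₁
  let A₁ := Algebra.adjoin R (T₁ : Set A)
  have h01 : A₀ ≤ A₁ := Algebra.adjoin_mono (Finset.coe_subset.2 Finset.subset_union_left)
  haveI : Algebra.FiniteType R A₁ := A₁.fg_iff_finiteType.1 ⟨T₁, rfl⟩
  haveI : IsNoetherianRing A₁ := Algebra.FiniteType.isNoetherianRing R A₁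
  haveI : Algebra.FiniteType A₁ B := Algebra.FiniteType.of_restrictScalars_finiteType R A₁ B
  haveI : Algebra.FinitePresentation A₁ B := Algebra.FinitePresentation.of_finiteType.1 inferInstance
  let f₁ : A₁ := ⟨f, h01 f.2⟩
  let L := Localization.Away (f : A)
  let BL := Localization.Away (algebraMap A B (f : A))
  let pf : Submonoid A₁ := Submonoid.powers f₁
  haveI hL : IsLocalization pf L := by
    refine ⟨{ map_units := ?_, surj := fun z => ?_, exists_of_eq := fun {x y} h => ⟨1, ?_⟩ }⟩
    · rintro ⟨_, n, rfl⟩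
      exact IsLocalization.map_units L (⟨(f : A) ^ n, n, rfl⟩ : Submonoid.powers (f : A))
    · obtain ⟨⟨a, _, n, rfl⟩, hz⟩ := IsLocalization.surj (Submonoid.powers (f : A)) z
      obtain ⟨m, hm⟩ := hloc₀ a
      refine ⟨⟨⟨(f : A) ^ m * a, h01 hm⟩, ⟨f₁ ^ (m + n), m + n, rfl⟩⟩, ?_⟩
      change z * algebraMap A L ((f : A) ^ (m + n)) = algebraMap A L ((f : A) ^ m * a)
      have hz' : z * algebraMap A L ((f : A) ^ n) = algebraMap A L a := hz
      rw [map_mul, ← hz']
      simp only [pow_add, map_mul, map_pow]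
      ring
    · simp only [one_mul, OneMemClass.coe_one]
      exact Subtype.ext (IsLocalization.injective L (powers_le_nonZeroDivisors_of_noZeroDivisors hf) h)
  letI : Algebra L BL := (IsLocalization.Away.map L BL (algebraMap A B) (f : A)).toAlgebra
  have hmap : ∀ a : A, algebraMap L BL (algebraMap A L a) = algebraMap B BL (algebraMap A B a) := fun a => by
    change IsLocalization.Away.map L BL (algebraMap A B) (f : A) (algebraMap A L a) = _
    rw [IsLocalization.Away.map, IsLocalization.map_eq]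
  haveI : IsScalarTower A L BL := .of_algebraMap_eq fun a =>
    (IsScalarTower.algebraMap_apply A B BL a).trans (hmap a).symm
  haveI : IsScalarTower A₁ L BL := .of_algebraMap_eq fun a =>
    (IsScalarTower.algebraMap_apply A₁ B BL a).trans (hmap (a : A)).symm
  haveI hflat₁ : Module.Flat A₁ BL := by
    haveI : Module.Flat A₀ BL := hflat
    letI : Algebra A₀ A₁ := (Subalgebra.inclusion h01).toAlgebra
    haveI : IsScalarTower A₀ A₁ L := .of_algebraMap_eq fun _ => rfl
    haveI : IsScalarTower A₀ L BL := .of_algebraMap_eq fun a =>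
      (IsScalarTower.algebraMap_apply A₀ B BL a).trans (hmap (a : A)).symm
    haveI : IsLocalization (Submonoid.powers f) L := by
      refine ⟨{ map_units := ?_, surj := fun z => ?_, exists_of_eq := fun {x y} h => ⟨1, ?_⟩ }⟩
      · rintro ⟨_, n, rfl⟩
        exact IsLocalization.map_units L (⟨(f : A) ^ n, n, rfl⟩ : Submonoid.powers (f : A))
      · obtain ⟨⟨a, _, n, rfl⟩, hz⟩ := IsLocalization.surj (Submonoid.powers (f : A)) z
        obtain ⟨m, hm⟩ := hloc₀ a
        refine ⟨⟨⟨(f : A) ^ m * a, hm⟩, ⟨f ^ (m + n), m + n, rfl⟩⟩, ?_⟩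
        change z * algebraMap A L ((f : A) ^ (m + n)) = algebraMap A L ((f : A) ^ m * a)
        have hz' : z * algebraMap A L ((f : A) ^ n) = algebraMap A L a := hz
        rw [map_mul, ← hz']
        simp only [pow_add, map_mul, map_pow]
        ring
      · simp only [one_mul, OneMemClass.coe_one]
        exact Subtype.ext (IsLocalization.injective L (powers_le_nonZeroDivisors_of_noZeroDivisors hf) h)
    exact (Module.flat_iff_of_isLocalization L pf BL).1
      ((Module.flat_iff_of_isLocalization L (Submonoid.powers f) BL).2 inferInstance)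
  have hgood : ∀ j ∈ ({f₁} : Finset A₁), H7Flat.Flatten.GoodAway A₁ B B j := by
    intro j hj
    rw [Finset.mem_singleton] at hj
    subst hj
    haveI hgl : IsLocalization.Away (algebraMap A₁ B f₁) BL :=
      (inferInstance : IsLocalization.Away (algebraMap A B (f : A)) BL)
    exact goodAway_self f₁ BL
  obtain ⟨I, ⟨hIfg, hfI⟩, hflatI⟩ := H7Flat.Flatten.exists_flattening ({f₁} : Finset A₁) hgood
  have hfI' : f₁ ∈ I.radical := hfI (Ideal.subset_span (Finset.mem_coe.2 (Finset.mem_singleton_self _)))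
  let K := FractionRing A
  have hinjA : Function.Injective (algebraMap A K) := IsFractionRing.injective A K
  have hinj₁ : Function.Injective (algebraMap A₁ K) := hinjA.comp Subtype.val_injective
  have hfK : algebraMap A₁ K f₁ ≠ 0 := (map_ne_zero_iff _ hinjA).2 hf
  have hloc : ∀ a : A, ∃ (n : ℕ) (x : A₁), algebraMap A₁ A f₁ ^ n * a = algebraMap A₁ A x := fun a => by
    obtain ⟨n, hn⟩ := hloc₀ a
    exact ⟨n, ⟨_, h01 hn⟩, rfl⟩
  obtain ⟨G₀, hG₀⟩ := hIfg
  let G : Finset A₁ := G₀.filter fun g => g ≠ 0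
  have hG : Ideal.span (G : Set A₁) = I := by
    rw [← hG₀]
    refine le_antisymm (Ideal.span_mono (Finset.coe_subset.2 (Finset.filter_subset _ _))) (Ideal.span_le.2 fun x hx => ?_)
    by_cases h0 : x = 0
    · rw [h0]; exact zero_mem _
    · exact Ideal.subset_span (Finset.mem_filter.2 ⟨hx, h0⟩)
  choose! e he hgen using fun g (hg : g ∈ G) => exists_chart_generators hp hinjA f₁ hfK hloc I hflatI g
    (hG ▸ Ideal.subset_span hg) ((map_ne_zero_iff _ hinj₁).2 (Finset.mem_filter.1 hg).2)
  choose! Tq hTq using fun g (hg : g ∈ G) q (hq : q ∈ e g) =>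
    exists_finset_adjoin (A₁ := A₁) (fracSet A₁ K I g) (he g hg q hq)
  let T₂ : Finset A := G.biUnion fun g => (e g).biUnion (Tq g)
  let A₂ := Algebra.adjoin A₁ (algebraMap A K '' (T₂ : Set A))
  haveI : Algebra.FiniteType A₁ A₂ := A₂.fg_iff_finiteType.1 ⟨T₂.image (algebraMap A K), by rw [Finset.coe_image]⟩
  haveI : IsNoetherianRing A₂ := Algebra.FiniteType.isNoetherianRing A₁ A₂
  let A' : Subalgebra A₁ K := (IsScalarTower.toAlgHom A₁ A K).range
  have hinj₂ : Function.Injective (algebraMap A₂ K) := Subtype.val_injective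
  have hinj₁₂ : Function.Injective (algebraMap A₁ A₂) := fun x y h => hinj₁ (congrArg Subtype.val h)
  obtain ⟨g₀, hg₀⟩ : ∃ g, g ∈ G := by
    by_contra! h
    obtain ⟨n, hn⟩ := hfI'
    rw [← hG, show G = ∅ from Finset.eq_empty_of_forall_notMem h, Finset.coe_empty, Ideal.span_empty,
      Ideal.mem_bot] at hn
    exact hfK (by rw [eq_zero_of_pow_eq_zero hn, map_zero])
  let G₂ : Finset A₂ := G.image (algebraMap A₁ A₂)
  let I₂ : Ideal A₂ := I.map (algebraMap A₁ A₂)
  have hG₂ : Ideal.span (G₂ : Set A₂) = I₂ := by rw [Finset.coe_image, ← Ideal.map_span, hG]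
  have hgm : ∀ g ∈ G, algebraMap A₁ A₂ g ∈ G₂ := fun g hg => Finset.mem_image_of_mem _ hg
  have hg₀0 : algebraMap A₁ A₂ g₀ ≠ 0 := (map_ne_zero_iff _ hinj₁₂).2 (Finset.mem_filter.1 hg₀).2
  obtain ⟨M₀, hM₀⟩ := exists_denominator hinj₂ I₂ G₂ hG₂ (hgm g₀ hg₀) hg₀0
  let G0 : K := algebraMap A₁ K g₀
  have hG0 : G0 ≠ 0 := (map_ne_zero_iff _ hinj₁).2 (Finset.mem_filter.1 hg₀).2
  let W : Submodule A₂ K := Submodule.span A₂ {(G0 ^ M₀)⁻¹}
  let U : Submodule A₂ K := Submodule.span A₂ (A' : Set K)
  have hA'W : (A' : Set K) ⊆ W := by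
    rintro _ ⟨a, rfl⟩
    obtain ⟨x, hx⟩ := hM₀ (algebraMap A K a) fun h hh => by
      obtain ⟨g, hg, rfl⟩ := Finset.mem_image.1 hh
      refine exists_pow_mem I₂ (hG₂ ▸ Ideal.subset_span (hgm g hg)) (fracSet A₁ K I g) ?_ ?_
      · rintro q ⟨x, hx, hq⟩
        exact ⟨algebraMap A₁ A₂ x, Ideal.mem_map_of_mem _ hx, hq⟩
      · have h1 : algebraMap A K a ∈ Algebra.adjoin A₁ ((fracSet A₁ K I g) ∪ algebraMap A K '' (T₂ : Set A)) :=
          (Algebra.adjoin_le (S := Algebra.adjoin A₁ ((fracSet A₁ K I g) ∪ algebraMap A K '' (T₂ : Set A)))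
            fun q hq => Algebra.adjoin_mono (Set.union_subset_union_right _ (Set.image_mono (Finset.coe_subset.2
              ((Finset.subset_biUnion_of_mem (Tq g) hq).trans
                (Finset.subset_biUnion_of_mem (fun g => (e g).biUnion (Tq g)) hg))))) (hTq g hg q hq))
            (hgen g hg _ (Subalgebra.algebraMap_mem _ a))
        refine (Algebra.adjoin_le ?_ :
          Algebra.adjoin A₁ ((fracSet A₁ K I g) ∪ algebraMap A K '' (T₂ : Set A)) ≤
            (Algebra.adjoin A₂ (fracSet A₁ K I g)).restrictScalars A₁) h1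
        rintro q (hq | hq)
        · exact Algebra.subset_adjoin hq
        · exact Subalgebra.algebraMap_mem (Algebra.adjoin A₂ (fracSet A₁ K I g)) ⟨q, Algebra.subset_adjoin hq⟩
    refine Submodule.mem_span_singleton.2 ⟨x, ?_⟩
    rw [Algebra.smul_def, ← hx, mul_assoc]
    change algebraMap A K a * (G0 ^ M₀ * (G0 ^ M₀)⁻¹) = _
    rw [mul_inv_cancel₀ (pow_ne_zero _ hG0), mul_one]
    rfl
  haveI : Module.Finite A₂ W := Module.Finite.span_of_finite A₂ (Set.finite_singleton _)
  haveI : IsNoetherian A₂ W := isNoetherian_of_isNoetherianRing_of_finite A₂ W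
  have hUW : U ≤ W := Submodule.span_le.2 hA'W
  have hUfg : U.FG := by
    have := (IsNoetherian.noetherian (U.comap W.subtype)).map W.subtype
    rwa [Submodule.map_comap_subtype, inf_eq_right.2 hUW] at this
  obtain ⟨V, hV, hVU⟩ := Submodule.fg_span_iff_fg_span_finset_subset _ |>.1 hUfg
  have hA₂A' : A₂ ≤ A' := Algebra.adjoin_le (by rintro _ ⟨a, -, rfl⟩; exact ⟨a, rfl⟩)
  have hA'fg : A'.FG := by
    refine ⟨T₂.image (algebraMap A K) ∪ V, le_antisymm (Algebra.adjoin_le ?_) fun q hq => ?_⟩
    · intro q hq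
      rcases Finset.mem_union.1 hq with h | h
      · obtain ⟨a, -, rfl⟩ := Finset.mem_image.1 h
        exact ⟨a, rfl⟩
      · exact hV h
    · have hqU : q ∈ Submodule.span A₂ (V : Set K) := hVU ▸ Submodule.subset_span hq
      obtain ⟨c, -, rfl⟩ := Submodule.mem_span_finset.1 hqU
      refine Subalgebra.sum_mem _ fun v hv => ?_
      rw [Algebra.smul_def]
      refine mul_mem ?_ (Algebra.subset_adjoin (Finset.mem_union_right _ hv))
      refine Algebra.adjoin_mono ?_ (c v).2
      rw [Finset.coe_union, Finset.coe_image]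
      exact Set.subset_union_left
  haveI : Algebra.FiniteType A₁ A' := A'.fg_iff_finiteType.1 hA'fg
  haveI : Algebra.FiniteType A₁ A := Algebra.FiniteType.equiv (inferInstanceAs (Algebra.FiniteType A₁ A'))
    (AlgEquiv.ofInjective (IsScalarTower.toAlgHom A₁ A K) hinjA).symm
  exact Algebra.FiniteType.trans (R := R) (S := A₁) (A := A) inferInstance inferInstance

/-- A pure Noetherian subalgebra of an algebra of finite type over a Noetherian ring is of finite type. -/
theorem finiteType_of_isPureAlg {R A B : Type u} [CommRing R] [IsNoetherianRing R] [CommRing A]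
    [IsNoetherianRing A] [CommRing B] [Algebra R A] [Algebra A B] [Algebra R B] [IsScalarTower R A B]
    [Algebra.FiniteType R B] (hp : IsPureAlg A B) : Algebra.FiniteType R A := by
  suffices h : ∀ I : Ideal A, Algebra.FiniteType R (A ⧸ I) from
    (h ⊥).of_surjective (AlgEquiv.quotientBot R A).toAlgHom (AlgEquiv.quotientBot R A).surjective
  intro I
  induction I using IsNoetherian.induction with
  | hgt I ih =>
    let A' := A ⧸ I
    let B' := A' ⊗[A] B
    haveI : IsScalarTower R A B' := inferInstance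
    let inc : B →ₐ[R] B' := (Algebra.TensorProduct.includeRight : B →ₐ[A] B').restrictScalars R
    haveI : Algebra.FiniteType R B' := Algebra.FiniteType.of_surjective inc fun z => by
      induction z using TensorProduct.induction_on with
      | zero => exact ⟨0, map_zero inc⟩
      | tmul a b =>
        obtain ⟨a, rfl⟩ := Ideal.Quotient.mk_surjective a
        refine ⟨a • b, ?_⟩
        change (1 : A') ⊗ₜ[A] (a • b) = _
        rw [← smul_tmul, Algebra.smul_def, mul_one]
        rfl
      | add x y hx hy =>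
        obtain ⟨b, rfl⟩ := hx
        obtain ⟨b', rfl⟩ := hy
        exact ⟨b + b', map_add inc b b'⟩
    have hp' : IsPureAlg A' B' := hp.baseChange A'
    have ih' : ∀ J : Ideal A', J ≠ ⊥ → Algebra.FiniteType R (A' ⧸ J) := fun J hJ => by
      have hlt : I < J.comap (Ideal.Quotient.mk I) := by
        refine lt_of_le_of_ne (fun x hx => by rw [Ideal.mem_comap, Ideal.Quotient.eq_zero_iff_mem.2 hx]; exact zero_mem _)
          fun h => hJ ?_
        rw [← Ideal.map_comap_of_surjective _ Ideal.Quotient.mk_surjective J, ← h, Ideal.map_quotient_self]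
      let q : A →ₐ[R] A' ⧸ J := (Ideal.Quotient.mkₐ R J).comp (Ideal.Quotient.mkₐ R I)
      refine (ih _ hlt).of_surjective
        (Ideal.Quotient.liftₐ (J.comap (Ideal.Quotient.mk I)) q fun x hx => Ideal.Quotient.eq_zero_iff_mem.2 hx)
        (Ideal.Quotient.lift_surjective_of_surjective _ _ (Ideal.Quotient.mk_surjective.comp Ideal.Quotient.mk_surjective))
    rcases subsingleton_or_nontrivial A' with hs | hn
    · exact ⟨⟨∅, Subsingleton.elim _ _⟩⟩
    by_cases hd : IsDomain A'
    · exact finiteType_of_domain hp' fun a ha => ih' _ fun h => ha (Ideal.span_singleton_eq_bot.1 h)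
    obtain ⟨a, b, hab, ha, hb⟩ : ∃ a b : A', a * b = 0 ∧ a ≠ 0 ∧ b ≠ 0 := by
      by_contra! h
      haveI : NoZeroDivisors A' := ⟨fun {a b} hab => or_iff_not_imp_left.2 (h a b hab)⟩
      exact hd (NoZeroDivisors.to_isDomain A')
    exact finiteType_of_annihilator a (ih' _ fun h => ha (Ideal.span_singleton_eq_bot.1 h))
      (ih' _ fun h => hb ((Submodule.mem_bot A').1 (h ▸ (show b ∈ LinearMap.ker (LinearMap.mulLeft A' a) from hab))))

end Groth.Agent.H14Pure
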