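import Mathlib

/-!
# Pure algebras

An `A`-algebra `B` is pure when every `A`-module embeds in its base change to `B`.
-/

set_option autoImplicit false
set_option linter.style.haveILetI false

universe u

open TensorProduct

namespace Groth.Agent.H14Pure

/-- Every module embeds in its base change. -/
def IsPureAlg (A B : Type u) [CommRing A] [CommRing B] [Algebra A B] : Prop :=
  ∀ (M : Type u) [AddCommGroup M] [Module A M] (m : M), (1 : B) ⊗ₜ[A] m = 0 → m = 0

variable {A B : Type u} [CommRing A] [CommRing B] [Algebra A B]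

theorem IsPureAlg.algebraMap_injective (h : IsPureAlg A B) : Function.Injective (algebraMap A B) := by
  refine (injective_iff_map_eq_zero _).2 fun a ha => h A a ?_
  rw [show a = a • (1 : A) from (mul_one a).symm, tmul_smul, smul_tmul', Algebra.smul_def, ha, zero_mul, zero_tmul]

theorem IsPureAlg.baseChange (h : IsPureAlg A B) (A' : Type u) [CommRing A'] [Algebra A A'] :
    IsPureAlg A' (A' ⊗[A] B) := by
  intro M _ _ m hm
  letI : Module A M := Module.compHom M (algebraMap A A')
  haveI : IsScalarTower A A' M := .of_algebraMap_smul fun _ _ => rfl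
  refine h M m ?_
  have := congrArg (fun z => TensorProduct.comm A M B (AlgebraTensorModule.cancelBaseChange A A' A' M B
    (TensorProduct.comm A' (A' ⊗[A] B) M z))) hm
  simpa [Algebra.TensorProduct.one_def] using this

/-- A ring which is finitely generated modulo a principal ideal and modulo its annihilator. -/
theorem finiteType_of_annihilator {R : Type u} [CommRing R] [Algebra R A] (a : A)
    (h₁ : Algebra.FiniteType R (A ⧸ Ideal.span {a}))
    (h₂ : Algebra.FiniteType R (A ⧸ LinearMap.ker (LinearMap.mulLeft A a))) : Algebra.FiniteType R A := by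
  classical
  obtain ⟨s₁, hs₁⟩ := h₁.out
  obtain ⟨s₂, hs₂⟩ := h₂.out
  choose l₁ hl₁ using Ideal.Quotient.mk_surjective (I := Ideal.span {a})
  choose l₂ hl₂ using Ideal.Quotient.mk_surjective (I := LinearMap.ker (LinearMap.mulLeft A a))
  let T : Finset A := insert a (s₁.image l₁ ∪ s₂.image l₂)
  let P := Algebra.adjoin R (T : Set A)
  have key : ∀ (J : Ideal A) (s : Finset (A ⧸ J)) (l : A ⧸ J → A), (∀ x, Ideal.Quotient.mk J (l x) = x) →
      Algebra.adjoin R (s : Set (A ⧸ J)) = ⊤ → s.image l ⊆ T → ∀ x : A, ∃ p ∈ P, x - p ∈ J := by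
    intro J s l hl hs hsT x
    have hmem : Ideal.Quotient.mkₐ R J x ∈ P.map (Ideal.Quotient.mkₐ R J) := by
      refine (show Algebra.adjoin R (s : Set (A ⧸ J)) ≤ _ from Algebra.adjoin_le fun y hy => ?_)
        (hs ▸ Algebra.mem_top)
      exact ⟨l y, Algebra.subset_adjoin (hsT (Finset.mem_image_of_mem l hy)), hl y⟩
    obtain ⟨p, hp, hpx⟩ := hmem
    exact ⟨p, hp, Ideal.Quotient.eq.1 hpx.symm⟩
  refine ⟨⟨T, eq_top_iff.2 fun x _ => ?_⟩⟩
  obtain ⟨p, hp, hx⟩ := key _ s₁ l₁ hl₁ hs₁ (Finset.subset_union_left.trans (Finset.subset_insert _ _)) x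
  obtain ⟨y, hy⟩ := Ideal.mem_span_singleton'.1 hx
  obtain ⟨q, hq, hy'⟩ := key _ s₂ l₂ hl₂ hs₂ (Finset.subset_union_right.trans (Finset.subset_insert _ _)) y
  have h0 : a * y = a * q := sub_eq_zero.1 (by
    rw [← mul_sub]
    exact hy')
  rw [sub_eq_iff_eq_add.1 hy.symm, mul_comm, h0]
  exact P.add_mem (P.mul_mem (Algebra.subset_adjoin (Finset.mem_insert_self a _)) hq) hp

end Groth.Agent.H14Pure
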