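import Groth.Agent.H14Pure.Basic
import Groth.Agent.H7Flat.GenericFreeness

/-!
# A pure subalgebra of an algebra of finite type is generically of finite type
-/

set_option autoImplicit false
set_option linter.style.haveILetI false

universe u

open TensorProduct

namespace Groth.Agent.H14Pure

variable {R A B : Type u} [CommRing R] [IsNoetherianRing R] [CommRing A] [IsDomain A] [CommRing B]
  [Algebra R A] [Algebra A B] [Algebra R B] [IsScalarTower R A B] [Algebra.FiniteType R B]

/-- A finitely generated subalgebra with the same fraction field. -/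
theorem exists_same_fractions (hp : IsPureAlg A B) :
    ∃ T : Finset A, ∀ a : A, ∃ c d : Algebra.adjoin R (T : Set A), (d : A) ≠ 0 ∧ (d : A) * a = c := by
  classical
  haveI : IsNoetherianRing B := Algebra.FiniteType.isNoetherianRing R B
  haveI : IsNoetherianRing (B ⊗[R] B) := Algebra.FiniteType.isNoetherianRing B (B ⊗[R] B)
  let δ : A → B ⊗[R] B := fun a => algebraMap A B a ⊗ₜ[R] 1 - 1 ⊗ₜ[R] algebraMap A B a
  obtain ⟨Z, hZD, hZ⟩ := Submodule.fg_span_iff_fg_span_finset_subset (R := B ⊗[R] B) (Set.range δ) |>.1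
    (IsNoetherian.noetherian _)
  choose! α hα using fun z (hz : z ∈ Z) => hZD hz
  refine ⟨Z.image α, fun a => ?_⟩
  let A₀ := Algebra.adjoin R ((Z.image α : Finset A) : Set A)
  let K := FractionRing A
  let i := algebraMap A K
  let F : Subfield K := Subfield.closure (A₀.toSubring.map i : Set K)
  have hA₀F : ∀ c ∈ A₀, i c ∈ F := fun c hc => Subfield.subset_closure ⟨c, hc, rfl⟩
  by_cases ha : i a ∈ F
  · obtain ⟨y, hy, z, hz, hyz⟩ := Subfield.mem_closure_iff.1 ha
    rw [Subring.closure_eq] at hy hz
    obtain ⟨c, hc, rfl⟩ := hy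
    obtain ⟨d, hd, rfl⟩ := hz
    by_cases hd0 : d = 0
    · refine ⟨0, 1, one_ne_zero, ?_⟩
      rw [hd0, map_zero, div_zero] at hyz
      have : a = 0 := (IsFractionRing.injective A K) (hyz.symm.trans (map_zero _).symm)
      simp [this]
    · refine ⟨⟨c, hc⟩, ⟨d, hd⟩, hd0, IsFractionRing.injective A K ?_⟩
      rw [map_mul, ← hyz]
      exact mul_div_cancel₀ _ ((map_ne_zero_iff _ (IsFractionRing.injective A K)).2 hd0)
  · exfalso
    let BK := K ⊗[A] B
    have hK : ∀ k : K, k ⊗ₜ[A] (1 : B) = 0 → k = 0 := fun k hk =>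
      hp K k (by simpa using congrArg (TensorProduct.comm A K B) hk)
    let ι : B →ₐ[A] BK := Algebra.TensorProduct.includeRight
    have hι : ∀ c : A, ι (algebraMap A B c) = i c ⊗ₜ[A] 1 := fun c => by
      rw [AlgHom.commutes]
      rfl
    have hsm : ∀ (r : R) (z : B), ι (r • z) = (⟨i (algebraMap R A r), hA₀F _ (A₀.algebraMap_mem r)⟩ : F) • ι z :=
      fun r z => by
        rw [← algebraMap_smul A r z, map_smul, ← algebraMap_smul K (algebraMap R A r) (ι z)]
        rfl
    have hnot : i a ⊗ₜ[A] (1 : B) ∉ Submodule.span F {(1 : BK)} := fun h => by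
      obtain ⟨⟨c, hc⟩, hc'⟩ := Submodule.mem_span_singleton.1 h
      have h1 : (c - i a) ⊗ₜ[A] (1 : B) = 0 := by
        rw [sub_tmul, ← hc', Algebra.TensorProduct.one_def, sub_eq_zero]
        change _ = c • ((1 : K) ⊗ₜ[A] (1 : B))
        rw [smul_tmul', smul_eq_mul, mul_one]
      exact ha (sub_eq_zero.1 (hK _ h1) ▸ hc)
    obtain ⟨m, hm, hm'⟩ := Submodule.exists_dual_map_eq_bot_of_notMem hnot inferInstance
    have h1 : (1 : BK) ∉ (⊥ : Submodule F BK) := fun h =>
      one_ne_zero (hK 1 (by rwa [Submodule.mem_bot, Algebra.TensorProduct.one_def] at h))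
    obtain ⟨l, hl, -⟩ := Submodule.exists_dual_map_eq_bot_of_notMem h1 inferInstance
    have hm1 : m 1 = 0 := by
      have : m 1 ∈ (Submodule.span F {(1 : BK)}).map m := ⟨1, Submodule.mem_span_singleton_self _, rfl⟩
      rwa [hm', Submodule.mem_bot] at this
    letI : Algebra R F := ((i.comp (algebraMap R A)).codRestrict F fun r => hA₀F _ (A₀.algebraMap_mem r)).toAlgebra
    have hr : ∀ (r : R) (q : F), r • q = (⟨i (algebraMap R A r), hA₀F _ (A₀.algebraMap_mem r)⟩ : F) * q :=
      fun r q => Algebra.smul_def r q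
    let Φ : B ⊗[R] B →ₗ[R] F := TensorProduct.lift (LinearMap.mk₂ R (fun x y => m (ι x) * l (ι y))
      (fun x x' y => by rw [map_add, map_add, add_mul])
      (fun r x y => by rw [hsm, map_smul, hr, smul_eq_mul, mul_assoc])
      (fun x y y' => by rw [map_add, map_add, mul_add])
      (fun r x y => by rw [hsm, map_smul, hr, smul_eq_mul, mul_left_comm]))
    have hscal : ∀ c ∈ A₀, ∀ x : B, ∀ f : Module.Dual F BK,
        ∀ hc : i c ∈ F, f (ι (algebraMap A B c * x)) = (⟨i c, hc⟩ : F) * f (ι x) := fun c _ x f hc => by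
      rw [← Algebra.smul_def, map_smul ι, ← algebraMap_smul K c (ι x),
        show algebraMap A K c • ι x = (⟨i c, hc⟩ : F) • ι x from rfl, map_smul f]
      rfl
    have hvan : ∀ w, ∀ z ∈ Z, Φ (w * z) = 0 := by
      intro w z hz
      have hmem : α z ∈ A₀ := Algebra.subset_adjoin (Finset.mem_image_of_mem α hz)
      rw [← hα z hz]
      induction w with
      | zero => simp
      | add w w' h h' => rw [add_mul, map_add, h, h', add_zero]
      | tmul x y =>
        simp only [δ, mul_sub, Algebra.TensorProduct.tmul_mul_tmul, map_sub, Φ, lift.tmul, LinearMap.mk₂_apply, mul_one]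
        rw [mul_comm x, mul_comm y, hscal _ hmem _ _ (hA₀F _ hmem), hscal _ hmem _ _ (hA₀F _ hmem)]
        ring
    have hΦ : Φ (δ a) = 0 := by
      obtain ⟨w, -, hw⟩ := Submodule.mem_span_finset.1
        (show δ a ∈ Submodule.span (B ⊗[R] B) (Z : Set _) from hZ ▸ Submodule.subset_span ⟨a, rfl⟩)
      rw [← hw, map_sum]
      exact Finset.sum_eq_zero fun z hz => hvan _ z hz
    simp only [δ, map_sub, Φ, lift.tmul, LinearMap.mk₂_apply, map_one, hι, hm1, zero_mul, sub_zero] at hΦ
    exact (mul_ne_zero hm hl) hΦ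

/-- Generic flatness gives a finitely generated subalgebra with the same localization. -/
theorem exists_away (hp : IsPureAlg A B) :
    ∃ (T : Finset A) (f : Algebra.adjoin R (T : Set A)), (f : A) ≠ 0 ∧
      (∀ a : A, ∃ n : ℕ, (f : A) ^ n * a ∈ Algebra.adjoin R (T : Set A)) ∧
      Module.Flat (Algebra.adjoin R (T : Set A)) (Localization.Away (algebraMap A B (f : A))) := by
  classical
  obtain ⟨T, hT⟩ := exists_same_fractions (R := R) hp
  let A₀ := Algebra.adjoin R (T : Set A)
  haveI : Algebra.FiniteType A₀ B := Algebra.FiniteType.of_restrictScalars_finiteType R A₀ B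
  obtain ⟨f, hf, hfree⟩ := H7Flat.exists_isAwayFree_of_finiteType (R := A₀) B B
  haveI := hfree.free_baseChange
  let L := Localization.Away f
  let BL := L ⊗[A₀] B
  have hfA : (f : A) ≠ 0 := fun h => hf (Subtype.ext h)
  have hfu : ∀ y : Submonoid.powers f, IsUnit (algebraMap A₀ (FractionRing A) y) := by
    rintro ⟨_, n, rfl⟩
    rw [map_pow]
    exact (isUnit_iff_ne_zero.2 ((map_ne_zero_iff _ (IsFractionRing.injective A _)).2 hfA)).pow n
  haveI : Nontrivial BL := by
    let KB := FractionRing A ⊗[A] B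
    let u : L →+* KB := (algebraMap (FractionRing A) KB).comp (IsLocalization.lift hfu)
    have hu : ∀ c : A₀, u (algebraMap A₀ L c) = algebraMap A KB (c : A) := fun c => by
      rw [RingHom.comp_apply, IsLocalization.lift_eq, IsScalarTower.algebraMap_apply A (FractionRing A) KB]
      rfl
    haveI : Nontrivial KB := ⟨1, 0, fun h => one_ne_zero (hp (FractionRing A) 1
      ((congrArg (TensorProduct.comm A (FractionRing A) B) h).trans (map_zero _)))⟩
    let v : L →ₐ[A₀] KB := { u with commutes' := fun c => hu c }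
    exact (Algebra.TensorProduct.lift v (Algebra.TensorProduct.includeRight.restrictScalars A₀)
      fun _ _ => Commute.all _ _).toRingHom.domain_nontrivial
  haveI : Module.FaithfullyFlat L BL := inferInstance
  have hloc : ∀ a : A, ∃ n : ℕ, (f : A) ^ n * a ∈ A₀ := by
    intro a
    obtain ⟨c, d, hd, hcd⟩ := hT a
    have h1 : algebraMap L BL (algebraMap A₀ L c) ∈ (Ideal.span {algebraMap A₀ L d}).map (algebraMap L BL) := by
      rw [Ideal.map_span, Set.image_singleton, Ideal.mem_span_singleton']
      refine ⟨1 ⊗ₜ algebraMap A B a, ?_⟩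
      let r : B →ₐ[A₀] BL := Algebra.TensorProduct.includeRight
      rw [← IsScalarTower.algebraMap_apply, ← IsScalarTower.algebraMap_apply, ← r.commutes d, ← r.commutes c,
        show ((1 : L) ⊗ₜ[A₀] algebraMap A B a) = r (algebraMap A B a) from rfl, ← map_mul]
      refine congrArg r ?_
      rw [IsScalarTower.algebraMap_apply A₀ A B, IsScalarTower.algebraMap_apply A₀ A B, ← map_mul, mul_comm]
      exact congrArg _ hcd
    rw [← Ideal.mem_comap, Ideal.comap_map_eq_self_of_faithfullyFlat, Ideal.mem_span_singleton'] at h1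
    obtain ⟨e, he⟩ := h1
    obtain ⟨e₀, ⟨_, n, rfl⟩, rfl⟩ := IsLocalization.exists_mk'_eq (Submonoid.powers f) e
    rw [mul_comm, IsLocalization.mul_mk'_eq_mk'_of_mul, IsLocalization.mk'_eq_iff_eq_mul, ← map_mul] at he
    have he' := congrArg Subtype.val ((IsLocalization.injective L (powers_le_nonZeroDivisors_of_noZeroDivisors hf)) he)
    refine ⟨n, ?_⟩
    have : (f : A) ^ n * a = (e₀ : A) := mul_left_cancel₀ hd (by
      simp only [MulMemClass.coe_mul, SubmonoidClass.coe_pow] at he'
      rw [he', ← hcd]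
      ring)
    exact this ▸ e₀.2
  refine ⟨T, f, hfA, hloc, ?_⟩
  haveI : Module.Flat A₀ BL := Module.Flat.trans A₀ L BL
  haveI hl : IsLocalizedModule (Submonoid.powers f) ((Algebra.TensorProduct.includeRight : B →ₐ[A₀] BL).toLinearMap) :=
    (isLocalizedModule_iff_isBaseChange (Submonoid.powers f) L _).2 (TensorProduct.isBaseChange A₀ B L)
  haveI : IsLocalization.Away (algebraMap A₀ B f) (Localization.Away (algebraMap A B (f : A))) :=
    inferInstanceAs (IsLocalization.Away (algebraMap A B (f : A)) _)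
  haveI : IsLocalizedModule (Submonoid.powers f)
      (IsScalarTower.toAlgHom A₀ B (Localization.Away (algebraMap A B (f : A)))).toLinearMap := by
    rw [isLocalizedModule_iff_isLocalization, Algebra.algebraMapSubmonoid, Submonoid.map_powers]
    infer_instance
  exact Module.Flat.of_linearEquiv (IsLocalizedModule.linearEquiv (Submonoid.powers f)
    (IsScalarTower.toAlgHom A₀ B (Localization.Away (algebraMap A B (f : A)))).toLinearMap
    ((Algebra.TensorProduct.includeRight : B →ₐ[A₀] BL).toLinearMap))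

end Groth.Agent.H14Pure
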